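import Cfsg.Agent.H152.QA.PTools
import Cfsg.Agent.H121.Cyc.Mathieu
import Cfsg.Agent.H968.TwoM22Fact
import Cfsg.Agent.H348.PPD.RowM22
import Cfsg.Agent.S2046
import Cfsg.Agent.S2047
import Cfsg.Agent.TypeM.FactsMcL
import Cfsg.Agent.KFacts.HS.Base

/-!
# S4979, layer (A): the rows `HS` and `McL` (helper440)

Both groups contain `M22`, whose nontrivial characters have degree at least 21; the characters of `M22` are small at the
elements of orders 3, 5, 7, 11 (centralizers of orders 36, 5, 7, 11), so an element `x` of `M22` of order `p` moves at least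
`13 ^ 10` vectors classes, more than the order of the group.
-/

set_option autoImplicit false

open Cfsg Subgroup

namespace Cfsg.Agent.H440.QA

open Cfsg.Agent.H152.QA Cfsg.Agent.H80.Fpf

/-- the centralizer of a generator -/
theorem cent_le {K : Type*} [Group K] {p : ℕ} (hp : p.Prime) {x y : K} (hx : orderOf x = p) (hy : y ∈ zpowers x)
    (hy1 : y ≠ 1) : centralizer ({y} : Set K) ≤ centralizer ({x} : Set K) := by
  have hx1 : x ∈ zpowers y := by
    have h1 : zpowers y ≤ zpowers x := zpowers_le.2 hy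
    have h2 : Nat.card (zpowers x) = p := by rw [Nat.card_zpowers, hx]
    have hfin : Finite (zpowers x) := Nat.finite_of_card_ne_zero (by rw [h2]; exact hp.ne_zero)
    have h3 : Nat.card (zpowers y) ∣ p := by rw [← h2]; exact card_dvd_of_le h1
    have h4 : zpowers y = zpowers x := by
      apply Subgroup.eq_of_le_of_card_ge h1
      rcases (Nat.dvd_prime hp).1 h3 with h5 | h5
      · exfalso
        apply hy1
        rw [Subgroup.card_eq_one, zpowers_eq_bot] at h5
        exact h5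
      · rw [h5, h2]
    rw [h4]; exact mem_zpowers x
  obtain ⟨k, rfl⟩ := mem_zpowers_iff.1 hx1
  intro g hg
  rw [mem_centralizer_singleton_iff] at hg ⊢
  exact (Commute.zpow_right (show Commute g y from hg) k)

/-- an element of order `p` of `M22` with small centralizer -/
theorem m22_elt {p : ℕ} (hp : p = 3 ∨ p = 5 ∨ p = 7 ∨ p = 11) : ∃ (x : Spor.M22) (c : ℕ), orderOf x = p ∧
    Nat.card (centralizer ({x} : Set Spor.M22)) ≤ c ^ 2 ∧ 9 ≤ ((p - 1) * (21 - c) + (p - 1)) / p := by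
  rcases hp with rfl | rfl | rfl | rfl
  · obtain ⟨s, t, g, h1, h2, h3, h4, h5, h6⟩ := Cfsg.Agent.H968.TwoM22.three.three
    exact ⟨s, 6, h1, by rw [h5]; norm_num, by norm_num⟩
  · obtain ⟨x, h1, h2⟩ := Cfsg.Agent.H348.PPD.RowM22.cent5
    exact ⟨x, 3, h1, by rw [h2]; norm_num, by norm_num⟩
  · obtain ⟨x, h1, h2⟩ := Cfsg.Agent.H968.TwoM22.three.seven
    exact ⟨x, 3, h1, h2.trans (by norm_num), by norm_num⟩
  · obtain ⟨x, h1, h2⟩ := Cfsg.Agent.H968.TwoM22.three.eleven
    exact ⟨x, 4, h1, h2.trans (by norm_num), by norm_num⟩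

/-- **`M22` in a group of order less than `13 ^ 9`** -/
theorem no_psit_of_m22 {p q : ℕ} {S V : Type} [Group S] [Finite S] [AddCommGroup V] [Finite V] [DistribMulAction S V]
    (h : PSit p q S V) (f : Spor.M22 →* S) (hf : Function.Injective f) (hp : p = 3 ∨ p = 5 ∨ p = 7 ∨ p = 11)
    (hq : 13 ≤ q) (hS : Nat.card S < 13 ^ 9) : False := by
  have hsim : IsSimpleGroup Spor.M22 := Cfsg.Agent.H121.Cyc.isM22.1
  have hcard : Nat.card Spor.M22 = 443520 := Cfsg.Agent.H121.Cyc.isM22.2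
  have hfin : Finite Spor.M22 := Nat.finite_of_card_ne_zero (by rw [hcard]; norm_num)
  have hZ : center Spor.M22 = ⊥ := by
    rcases Subgroup.Normal.eq_bot_or_eq_top (inferInstance : (center Spor.M22).Normal) with h1 | h1
    · exact h1
    · exfalso
      refine Cfsg.Agent.H121.Cyc.not_comm_of_card (G := Spor.M22) (by rw [hcard]; norm_num) ⟨⟨fun a b => ?_⟩⟩
      have h2 : b ∈ center Spor.M22 := by rw [h1]; trivial
      exact mem_center_iff.1 h2 a
  have hZ1 : Nat.card (center Spor.M22) = 1 := by rw [hZ, card_bot]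
  obtain ⟨x, c, hx, hc, hn⟩ := m22_elt hp
  have hX : Nat.card (zpowers x) = p := by rw [Nat.card_zpowers, hx]
  have hne : ∃ k, f k ≠ 1 := by
    refine ⟨x, fun h1 => ?_⟩
    have h2 : x = 1 := hf (by rw [h1, map_one])
    rw [h2, orderOf_one] at hx
    exact h.hp.one_lt.ne hx
  have h1 := h.ch_hom f hne (B := 21) (c := c) Cfsg.Agent.H121.Cyc.m22' (by
      rw [hZ1]; exact h.hp.one_lt.ne' ∘ Nat.dvd_one.1) (zpowers x)
    (IsPGroup.of_card (n := 1) (by rw [hX, pow_one])) (fun y hy hy1 => by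
      rw [hZ1, mul_one]
      exact (Nat.card_le_card_of_injective _ (inclusion_injective (cent_le h.hp hx hy hy1))).trans hc)
  rw [hX] at h1
  have h2 : (normalizer (((zpowers x).map f : Subgroup S) : Set S)).index ≤ Nat.card S :=
    Nat.le_of_dvd Nat.card_pos (index_dvd_card _)
  have h3 : 13 ^ 9 ≤ q ^ (((p - 1) * (21 - c) + (p - 1)) / p) :=
    (Nat.pow_le_pow_left hq 9).trans (Nat.pow_le_pow_right h.hq.pos hn)
  omega

theorem prime_ge {q n : ℕ} (hq : q.Prime) (hn : ¬ q ∣ n) (h2 : 2 ∣ n) (h3 : 3 ∣ n) (h5 : 5 ∣ n) (h7 : 7 ∣ n)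
    (h11 : 11 ∣ n) : 13 ≤ q := by
  by_contra hlt
  have hlt' : q < 13 := by omega
  interval_cases q <;> contradiction

theorem prime_cases {p a b c : ℕ} (hp : p.Prime) (h2 : p ≠ 2) (h : p ∣ 2 ^ a * 3 ^ b * 5 ^ c * 7 * 11) :
    p = 3 ∨ p = 5 ∨ p = 7 ∨ p = 11 := by
  have key : ∀ r k : ℕ, r.Prime → p ∣ r ^ k → p = r := fun r k hr hd =>
    (Nat.prime_dvd_prime_iff_eq hp hr).1 (hp.dvd_of_dvd_pow hd)
  rcases (Nat.Prime.dvd_mul hp).1 h with h | h
  · rcases (Nat.Prime.dvd_mul hp).1 h with h | h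
    · rcases (Nat.Prime.dvd_mul hp).1 h with h | h
      · rcases (Nat.Prime.dvd_mul hp).1 h with h | h
        · exact absurd (key 2 a (by norm_num) h) h2
        · exact Or.inl (key 3 b (by norm_num) h)
      · exact Or.inr (Or.inl (key 5 c (by norm_num) h))
    · exact Or.inr (Or.inr (Or.inl ((Nat.prime_dvd_prime_iff_eq hp (by norm_num)).1 h)))
  · exact Or.inr (Or.inr (Or.inr ((Nat.prime_dvd_prime_iff_eq hp (by norm_num)).1 h)))

theorem multDvd_equiv {S T : Type} [Group S] [Group T] (e : S ≃* T) {m : ℕ} (h : MultDvd T m) : MultDvd S m := by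
  intro G _ _ π hπ
  have h1 := h G (e.toMonoidHom.comp π) (hπ.equiv_comp e)
  have h2 : (e.toMonoidHom.comp π).ker = π.ker := by
    ext g
    rw [MonoidHom.mem_ker, MonoidHom.mem_ker, MonoidHom.comp_apply]
    exact MulEquiv.map_eq_one_iff e
  rwa [h2] at h1

/-- the embedding of `M22` in the stabilizers in the Leech lattice -/
theorem exists_emb {G : Type*} [Group G] {K : Subgroup (Equiv.Perm leechLattice)} (e : G ≃* K)
    (h : ∀ g : Spor.M22, Cfsg.Agent.H121.Cyc.fL g ∈ K) : ∃ f : Spor.M22 →* G, Function.Injective f :=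
  ⟨e.symm.toMonoidHom.comp (Cfsg.Agent.H121.Cyc.fL.codRestrict K h), e.symm.injective.comp fun a b hab =>
    Cfsg.Agent.H121.Cyc.fL_injective (a₁ := a) (a₂ := b) (congrArg (fun z : ↥K => (z : Equiv.Perm leechLattice)) hab)⟩

/-- **the row `HS`** -/
theorem row_hs {S : Type} [Group S] [Finite S] [IsSimpleGroup S] (h : Spor.IsoHS S) : NoSit S := by
  intro p q L V _ _ _ _ _ π N φ hπ hs
  have hcard := Cfsg.Agent.KFacts.HS.card h
  obtain ⟨e⟩ := h
  have hm : MultDvd S 2 := multDvd_equiv e (multDvd_of_cyclic (by norm_num) Cfsg.Agent.S2046.result)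
  obtain ⟨act, hP⟩ := hs.exists_pSit_prime hπ (by norm_num) hm
  obtain ⟨f, hf⟩ := exists_emb e fun g =>
    ⟨⟨Cfsg.Agent.H121.Cyc.fL_mem g, Cfsg.Agent.H121.Cyc.fL_V g⟩, Cfsg.Agent.H121.Cyc.fL_U' g⟩
  refine no_psit_of_m22 hP f hf (prime_cases (a := 9) (b := 2) (c := 3) hP.hp hP.odd ?_) (prime_ge hP.hq hP.qG ?_ ?_ ?_ ?_ ?_)
    (by rw [hcard]; norm_num)
  · have h1 := hP.pG
    rw [hcard] at h1
    exact h1
  all_goals (rw [hcard]; norm_num)

/-- **the row `McL`** -/
theorem row_mcl {S : Type} [Group S] [Finite S] [IsSimpleGroup S] (h : Spor.IsoMcL S) : NoSit S := by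
  intro p q L V _ _ _ _ _ π N φ hπ hs
  obtain ⟨-, -, hcard, -⟩ := Cfsg.Agent.TypeM.FactsMcL.facts h
  obtain ⟨e⟩ := h
  have hm : MultDvd S 3 := multDvd_equiv e (multDvd_of_cyclic (by norm_num) Cfsg.Agent.S2047.result)
  obtain ⟨act, hP⟩ := hs.exists_pSit_prime hπ (by norm_num) hm
  obtain ⟨f, hf⟩ := exists_emb e fun g =>
    ⟨⟨Cfsg.Agent.H121.Cyc.fL_mem g, Cfsg.Agent.H121.Cyc.fL_V g⟩, Cfsg.Agent.H121.Cyc.fL_U g⟩
  refine no_psit_of_m22 hP f hf (prime_cases (a := 7) (b := 6) (c := 3) hP.hp hP.odd ?_) (prime_ge hP.hq hP.qG ?_ ?_ ?_ ?_ ?_)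
    (by rw [hcard]; norm_num)
  · have h1 := hP.pG
    rw [hcard] at h1
    exact h1
  all_goals (rw [hcard]; norm_num)

end Cfsg.Agent.H440.QA
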