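import Cfsg.Agent.H440.QA.HSMcL
import Cfsg.Agent.H973.QA.Crit
import Cfsg.Agent.H121.Cyc.Spor
import Cfsg.Agent.H715.Fpr.J3
import Cfsg.Agent.H759.QA.Chars
import Cfsg.Agent.S2041

/-!
# S4979, layer (A): the row `J3` (helper440)

The module is one of `S` (multiplier 3), `p = 5, 17, 19`; the CH criterion with the degree bound 18.
-/

set_option autoImplicit false

open Cfsg Subgroup

namespace Cfsg.Agent.H440.QA.JThree

open Cfsg.Agent.H152.QA Cfsg.Agent.H80.Fpf Cfsg.Agent.H973.QA Cfsg.Agent.H121.Cyc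
open Cfsg.Agent.OrdDiv (Grp)

theorem card_eq {S : Type} [Group S] (h : Spor.IsoJ3 S) : Nat.card S = 50232960 :=
  (Cfsg.Agent.H898.J3Cent.base h).2.1

/-- the nontrivial representations have degree at least 18 -/
theorem minDeg {S : Type} [Group S] [Finite S] [IsSimpleGroup S] (h : Spor.IsoJ3 S) : Cfsg.Agent.H122.MinDeg S 18 := by
  have hcard := card_eq h
  have hna : ¬ IsMulCommutative S := not_comm_of_card (by rw [hcard]; norm_num)
  have hx : ((Grp.j3, 50232960) : Grp × ℕ) ∈ Cfsg.Agent.OrdDiv.spor := by decide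
  have key : ∀ (r E0 : ℕ), r ∈ Cfsg.Agent.H655.Spor.L → 7 ≤ r → r.Prime → r ∣ 50232960 → ¬ r ^ 2 ∣ 50232960 →
      (∀ y ∈ Cfsg.Agent.H655.Spor.surv, y.1 = Grp.j3 → y.2.1 = r → y.2.2 = E0) →
      ∀ (n : ℕ) (σ : Representation ℂ S (Fin n → ℂ)), σ.IsIrreducible → 2 ≤ n → n < r - 1 → n = r - E0 := by
    intro r E0 hrL hr7 hr hd hd2 hE n σ hσ hn2 hn
    have hf := Fact.mk hr
    obtain ⟨P⟩ : Nonempty (Sylow r S) := inferInstance
    have hP : Nat.card P = r := card_of_dvd (by rw [hcard]; exact hd) (by rw [hcard]; exact hd2) P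
    rcases small hna hr7 P hP σ hσ (exists_ne_one' σ hσ hn2) hn with h4 | ⟨E, t, h4, h5⟩
    · exact absurd h4 (not_psl hx hcard hrL)
    · have h6 := Cfsg.Agent.H655.Spor.mem_surv h5 hr7 hx (by rw [← Nat.card_congr (quoEquiv hna).toEquiv, hcard])
      have h7 : E = E0 := hE _ h6 rfl rfl
      rw [h4, h7]
  refine minDeg_of_fin (commutator_top hna) fun n σ hσ hn2 => ?_
  by_contra hlt
  have h19 := key 19 9 (by decide) (by norm_num) (by norm_num) (by norm_num) (by norm_num) (by decide) n σ hσ hn2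
    (by omega)
  have h17 := key 17 8 (by decide) (by norm_num) (by norm_num) (by norm_num) (by norm_num) (by decide) n σ hσ hn2
    (by omega)
  omega

/-- **the row `J3`** -/
theorem row_j3 {S : Type} [Group S] [Finite S] [IsSimpleGroup S] (h : Spor.IsoJ3 S) : NoSit S := by
  intro p q L V _ _ _ _ _ π N φ hπ hs
  have hcard := card_eq h
  have hm : MultDvd S 3 := by
    obtain ⟨F, _, _, ω, hF, hω, ⟨e⟩⟩ := h
    exact multDvd_equiv e (multDvd_of_cyclic (by norm_num) (Cfsg.Agent.S2041.result hF ω hω))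
  have hp3 : p ≠ 3 := by
    rintro rfl
    apply hs.pZ
    have hZ := Cfsg.Agent.H759.QA.center_eq_ker hπ
    have h1 : Nat.card N ∣ 3 := ((Subgroup.card_dvd_of_le (hZ ▸ hs.cen)).trans (hm L π hπ))
    rcases (Nat.dvd_prime Nat.prime_three).1 h1 with h2 | h2
    · exact absurd (Subgroup.card_eq_one.1 h2) hs.Nne
    · rw [← h2]; exact Subgroup.card_dvd_of_le hs.cen
  obtain ⟨act, hP⟩ := hs.exists_pSit_prime hπ Nat.prime_three hm
  have hB := minDeg h
  have hna : ¬ IsMulCommutative S := not_comm_of_card (by rw [hcard]; norm_num)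
  have hψ : IsCover (MonoidHom.id S) := isCover_id (commutator_top hna)
  have hq : 7 ≤ q := by
    have h1 := hP.qG
    rw [hcard] at h1
    have h2 := hP.hq
    by_contra hlt
    have hlt' : q < 7 := by omega
    interval_cases q
    all_goals contradiction
  have hp : p = 5 ∨ p = 17 ∨ p = 19 := by
    have h1 := hP.pG
    rw [hcard, show 50232960 = 2 ^ 7 * 3 ^ 5 * 5 * 17 * 19 by norm_num] at h1
    have hpp := hP.hp
    have key : ∀ r : ℕ, r.Prime → p ∣ r → p = r := fun r hr hd => (Nat.prime_dvd_prime_iff_eq hpp hr).1 hd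
    rcases (Nat.Prime.dvd_mul hpp).1 h1 with h1 | h1
    · rcases (Nat.Prime.dvd_mul hpp).1 h1 with h1 | h1
      · rcases (Nat.Prime.dvd_mul hpp).1 h1 with h1 | h1
        · rcases (Nat.Prime.dvd_mul hpp).1 h1 with h1 | h1
          · exact absurd (key 2 (by norm_num) (hpp.dvd_of_dvd_pow h1)) hP.odd
          · exact absurd (key 3 (by norm_num) (hpp.dvd_of_dvd_pow h1)) hp3
        · exact Or.inl (key 5 (by norm_num) h1)
      · exact Or.inr (Or.inl (key 17 (by norm_num) h1))
    · exact Or.inr (Or.inr (key 19 (by norm_num) h1))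
  have hpf := Fact.mk hP.hp
  obtain ⟨z, hz⟩ := exists_prime_orderOf_dvd_card' (G := S) p hP.pG
  have hR : Nat.card (zpowers z) = p := by rw [Nat.card_zpowers, hz]
  have hcz : centralizer ((zpowers z : Subgroup S) : Set S) = centralizer ({z} : Set S) :=
    Cfsg.Agent.H898.J3Cent.centralizer_zpowers z
  rcases hp with rfl | rfl | rfl
  · rcases Cfsg.Agent.H715.Fpr.J3.cn5 h hR with ⟨h1, h2⟩ | ⟨h1, h2⟩ | ⟨h1, h2⟩
    · exact PSit.no_ch hP hψ hB (s := 6) (n := 60) (q0 := 7) (by norm_num) hq hcard hz (by rw [← hcz, h1]; norm_num)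
        (by norm_num) h2.ge (by decide +kernel)
    · exact PSit.no_ch hP hψ hB (s := 10) (n := 360) (q0 := 7) (by norm_num) hq hcard hz (by rw [← hcz, h1]; norm_num)
        (by norm_num) h2.ge (by decide +kernel)
    · exact Cfsg.Agent.H715.Fpr.J3.not_2430 h hz (by rw [← hcz, h1])
  · obtain ⟨h1, h2⟩ := Cfsg.Agent.H715.Fpr.J3.cn17 h hR
    exact PSit.no_ch hP hψ hB (s := 5) (n := 136) (q0 := 7) (by norm_num) hq hcard hz (by rw [← hcz, h1]; norm_num)
      (by norm_num) h2.ge (by decide +kernel)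
  · obtain ⟨h1, h2⟩ := Cfsg.Agent.H715.Fpr.J3.cn19 h hR
    exact PSit.no_ch hP hψ hB (s := 5) (n := 171) (q0 := 7) (by norm_num) hq hcard hz (by rw [← hcz, h1]; norm_num)
      (by norm_num) h2.ge (by decide +kernel)

end Cfsg.Agent.H440.QA.JThree
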