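import Cfsg.Agent.H440.QA.HSMcL
import Cfsg.Agent.H973.QA.Crit
import Cfsg.Agent.H715.Fpr.MathData
import Cfsg.Agent.H715.Fpr.GenM12
import Cfsg.Agent.S2035

/-!
# S4979, layer (A): the row `M12` (helper440)

The module is one of `S` (multiplier 2); `p = 5, 11`: the CH criterion with the degree bound 10; `p = 3`: two conjugate elements
generate.
-/

set_option autoImplicit false

open Cfsg Subgroup

namespace Cfsg.Agent.H440.QA.MTwelve

open Cfsg.Agent.H152.QA Cfsg.Agent.H80.Fpf Cfsg.Agent.H973.QA Cfsg.Agent.H121.Cyc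
open Cfsg.Agent.H715.Fpr Cfsg.Agent.H715.Fpr.MathData

/-- an element of order `p`, `p² ∣ |G|`: the normalizer of `⟨x⟩` has order at least `p²` -/
theorem sq_le_normalizer {G : Type*} [Group G] [Finite G] {p : ℕ} (hp : p.Prime) (h2 : p ^ 2 ∣ Nat.card G) {x : G}
    (hx : orderOf x = p) : p ^ 2 ≤ Nat.card (normalizer ((zpowers x : Subgroup G) : Set G)) := by
  have hf := Fact.mk hp
  obtain ⟨P, hP⟩ := (IsPGroup.of_card (G := zpowers x) (p := p) (n := 1)
    (by rw [Nat.card_zpowers, hx, pow_one])).exists_le_sylow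
  have hxP : x ∈ (P : Subgroup G) := hP (mem_zpowers x)
  have hP2 : p ^ 2 ∣ Nat.card (P : Subgroup G) := by
    rw [P.card_eq_multiplicity]
    exact pow_dvd_pow p ((hp.pow_dvd_iff_le_factorization Nat.card_pos.ne').1 h2)
  -- the normalizer in `P` of `⟨x⟩`
  have hPp : IsPGroup p P := P.2
  let X : Subgroup P := (zpowers x).subgroupOf P
  have hXc : Nat.card X = p := by
    have h1 : Nat.card X = Nat.card (zpowers x) := Nat.card_congr (Subgroup.subgroupOfEquivOfLe hP).toEquiv
    rw [h1, Nat.card_zpowers, hx]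
  have hXlt : X < ⊤ := by
    rw [lt_top_iff_ne_top]
    intro h1
    rw [h1, card_top] at hXc
    rw [hXc] at hP2
    have h3 := Nat.le_of_dvd hp.pos hP2
    have h4 := hp.one_lt
    nlinarith
  have hnil : Group.IsNilpotent P := hPp.isNilpotent
  have h3 : X < normalizer (X : Set P) := Group.normalizerCondition_of_isNilpotent (G := P) X hXlt
  have h4 : p ^ 2 ≤ Nat.card (normalizer (X : Set P)) := by
    have h5 : IsPGroup p (normalizer (X : Set P)) := hPp.to_subgroup _
    obtain ⟨n, hn⟩ := IsPGroup.iff_card.1 h5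
    rw [hn]
    apply Nat.pow_le_pow_right hp.pos
    by_contra hlt
    have h6 : Nat.card (normalizer (X : Set P)) ≤ Nat.card X := by
      rw [hn, hXc]
      calc p ^ n ≤ p ^ 1 := Nat.pow_le_pow_right hp.pos (by omega)
        _ = p := pow_one p
    exact h3.ne (Subgroup.eq_of_le_of_card_ge h3.le h6)
  refine h4.trans ?_
  refine Nat.card_le_card_of_injective
    (fun g : normalizer (X : Set P) => (⟨((g : P) : G), ?_⟩ : normalizer ((zpowers x : Subgroup G) : Set G))) ?_
  · have hg := g.2
    rw [mem_normalizer_iff] at hg ⊢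
    intro t
    constructor
    · intro ht
      exact (hg ⟨t, hP ht⟩).1 ht
    · intro ht
      have htP : t ∈ (P : Subgroup G) := by
        have h5 : ((g : P) : G) * t * ((g : P) : G)⁻¹ ∈ (P : Subgroup G) := hP ht
        have h6 := mul_mem (mul_mem (inv_mem (g : P).2) h5) (g : P).2
        have h7 : ((g : P) : G)⁻¹ * (((g : P) : G) * t * ((g : P) : G)⁻¹) * ((g : P) : G) = t := by group
        rwa [h7] at h6
      exact (hg ⟨t, htP⟩).2 ht
  · intro a b hab
    exact Subtype.ext (Subtype.ext (congrArg (fun w : normalizer ((zpowers x : Subgroup G) : Set G) => (w : G)) hab))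

/-- `⟨B, ABA⁻¹⟩` is everything if `⟨A, B⟩` is and `A² = 1` -/
theorem eq_top_of {G : Type*} [Group G] [IsSimpleGroup G] {A B : G} (hA : A * A = 1) (hB : B ≠ 1)
    (hgen : closure ({A, B} : Set G) = ⊤) (H : Subgroup G) (h1 : B ∈ H) (h2 : A * B * A⁻¹ ∈ H) : H = ⊤ := by
  have hAi : A⁻¹ = A := inv_eq_of_mul_eq_one_left hA
  let K := closure ({B, A * B * A⁻¹} : Set G)
  have hKH : K ≤ H := by
    rw [closure_le]
    rintro x (rfl | rfl)
    · exact h1
    · exact h2
  have hBK : B ∈ K := subset_closure (Or.inl rfl)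
  have hCK : A * B * A⁻¹ ∈ K := subset_closure (Or.inr rfl)
  have hAK : ∀ x ∈ K, A * x * A⁻¹ ∈ K := by
    have h3 : K.map (MulAut.conj A).toMonoidHom ≤ K := by
      rw [MonoidHom.map_closure, closure_le]
      rintro _ ⟨x, (rfl | rfl), rfl⟩
      · exact hCK
      · show A * (A * B * A⁻¹) * A⁻¹ ∈ K
        have h4 : A * (A * B * A⁻¹) * A⁻¹ = B := by
          rw [hAi]
          calc A * (A * B * A) * A = (A * A) * B * (A * A) := by group
            _ = B := by rw [hA, one_mul, mul_one]
        rw [h4]; exact hBK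
    intro x hx
    exact h3 ⟨x, hx, rfl⟩
  have hN : normalizer (K : Set G) = ⊤ := by
    rw [← top_le_iff, ← hgen, closure_le]
    rintro x (rfl | rfl)
    · show x ∈ normalizer (K : Set G)
      rw [mem_normalizer_iff]
      intro t
      constructor
      · exact hAK t
      · intro ht
        have h3 := hAK _ ht
        have h4 : x * (x * t * x⁻¹) * x⁻¹ = t := by
          rw [hAi]
          calc x * (x * t * x) * x = (x * x) * t * (x * x) := by group
            _ = t := by rw [hA, one_mul, mul_one]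
        rwa [h4] at h3
    · exact le_normalizer hBK
  have hKn : K.Normal := normalizer_eq_top_iff.1 hN
  rcases hKn.eq_bot_or_eq_top with h3 | h3
  · exfalso
    rw [h3, mem_bot] at hBK
    exact hB hBK
  · rw [← top_le_iff, ← h3]; exact hKH

theorem row_aux : NoSit Spor.M12 := by
  have hcard : Nat.card Spor.M12 = 95040 := card12
  have hfin : Finite Spor.M12 := Nat.finite_of_card_ne_zero (by rw [hcard]; norm_num)
  have hsim : IsSimpleGroup Spor.M12 := simple12
  intro p q L V _ _ _ _ _ π N φ hπ hs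
  have hm : MultDvd Spor.M12 2 := multDvd_of_cyclic (by norm_num) Cfsg.Agent.S2035.result
  obtain ⟨act, hP⟩ := hs.exists_pSit_prime hπ Nat.prime_two hm
  have hB : Cfsg.Agent.H122.MinDeg Spor.M12 10 := m12 ⟨MulEquiv.refl _⟩
  have hna : ¬ IsMulCommutative Spor.M12 := not_comm_of_card (by rw [hcard]; norm_num)
  have hψ : IsCover (MonoidHom.id Spor.M12) := isCover_id (commutator_top hna)
  have hq : 7 ≤ q := by
    have h1 := hP.qG
    rw [hcard] at h1
    have h2 := hP.hq
    by_contra hlt
    have hlt' : q < 7 := by omega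
    interval_cases q
    all_goals contradiction
  have hp : p = 3 ∨ p = 5 ∨ p = 11 := by
    have h1 := hP.pG
    rw [hcard, show 95040 = 2 ^ 6 * 3 ^ 3 * 5 * 11 by norm_num] at h1
    have hpp := hP.hp
    have key : ∀ r : ℕ, r.Prime → p ∣ r → p = r := fun r hr hd => (Nat.prime_dvd_prime_iff_eq hpp hr).1 hd
    rcases (Nat.Prime.dvd_mul hpp).1 h1 with h1 | h1
    · rcases (Nat.Prime.dvd_mul hpp).1 h1 with h1 | h1
      · rcases (Nat.Prime.dvd_mul hpp).1 h1 with h1 | h1
        · exact absurd (key 2 (by norm_num) (hpp.dvd_of_dvd_pow h1)) hP.odd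
        · exact Or.inl (key 3 (by norm_num) (hpp.dvd_of_dvd_pow h1))
      · exact Or.inr (Or.inl (key 5 (by norm_num) h1))
    · exact Or.inr (Or.inr (key 11 (by norm_num) h1))
  have hpf := Fact.mk hP.hp
  obtain ⟨z, hz⟩ := exists_prime_orderOf_dvd_card' (G := Spor.M12) p hP.pG
  have hR : Nat.card (zpowers z) = p := by rw [Nat.card_zpowers, hz]
  have hcz : centralizer ((zpowers z : Subgroup Spor.M12) : Set Spor.M12) = centralizer ({z} : Set Spor.M12) := by
    rw [zpowers_eq_closure, centralizer_closure]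
  rcases hp with rfl | rfl | rfl
  · have h9 : ∀ y : Spor.M12, orderOf y = 3 → (normalizer ((zpowers y : Subgroup Spor.M12) : Set Spor.M12)).index ≤ 10560 :=
      fun y hy => (index_le hcard (n := 9) (by norm_num) _
        (sq_le_normalizer Nat.prime_three (by rw [hcard]; norm_num) hy)).trans (by norm_num)
    have hA : GenM12.A * GenM12.A = 1 := by
      rw [← pow_two, ← GenM12.order_A, pow_orderOf_eq_one]
    have hB1 : GenM12.B ≠ 1 := by
      intro h1
      have := GenM12.order_B
      rw [h1, orderOf_one] at this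
      norm_num at this
    have ho : orderOf (GenM12.A * GenM12.B * GenM12.A⁻¹) = 3 := by
      rw [← GenM12.order_B]
      exact orderOf_injective (MulAut.conj GenM12.A).toMonoidHom (MulAut.conj GenM12.A).injective GenM12.B
    refine PSit.no_gen hP hψ hB (q0 := 7) (by norm_num) hq
      [(GenM12.B, 10560), (GenM12.A * GenM12.B * GenM12.A⁻¹, 10560)] ?_ ?_ (by decide +kernel)
    · intro z hz
      simp only [List.mem_cons, List.not_mem_nil, or_false] at hz
      rcases hz with rfl | rfl
      · exact ⟨⟨1, by rw [pow_one]; exact GenM12.order_B⟩, h9 _ GenM12.order_B⟩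
      · exact ⟨⟨1, by rw [pow_one]; exact ho⟩, h9 _ ho⟩
    · intro H hH
      exact eq_top_of hA hB1 GenM12.closure_top H (hH (GenM12.B, 10560) (by simp))
        (hH (GenM12.A * GenM12.B * GenM12.A⁻¹, 10560) (by simp))
  · obtain ⟨h1, h2⟩ := cn12_5 hR
    exact PSit.no_ch hP hψ hB (s := 4) (n := 40) (q0 := 7) (by norm_num) hq hcard hz (by rw [← hcz, h1]; norm_num)
      (by norm_num) h2.ge (by decide +kernel)
  · obtain ⟨h1, h2⟩ := cn12_11 hR
    exact PSit.no_ch hP hψ hB (s := 4) (n := 55) (q0 := 7) (by norm_num) hq hcard hz (by rw [← hcz, h1]; norm_num)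
      (by norm_num) h2.ge (by decide +kernel)

/-- **the row `M12`** -/
theorem row_m12 {S : Type} [Group S] [Finite S] [IsSimpleGroup S] (h : Spor.IsoM12 S) : NoSit S := by
  obtain ⟨e⟩ := h
  exact NoSit.of_equiv e row_aux

end Cfsg.Agent.H440.QA.MTwelve
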