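import Cfsg.Agent.H440.QA.HSMcL
import Cfsg.Agent.H973.QA.Crit
import Cfsg.Agent.H269.QA.RuGen
import Cfsg.Agent.H147.Fpr.RuOdd
import Cfsg.Agent.H121.Cyc.Ru
import Cfsg.Agent.S2051

/-!
# S4979, layer (A): the row `Ru` (helper440)

The module is one of `S` (multiplier 2), the nontrivial representations have degree at least 28, `q ≥ 11`; `p = 7, 13, 29`: the CH
criterion; `p = 3`: acts on an element of order 13; `p = 5`: two conjugate elements generate.
-/

set_option autoImplicit false

open Cfsg Subgroup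

namespace Cfsg.Agent.H440.QA.Rud

open Cfsg.Agent.H152.QA Cfsg.Agent.H80.Fpf Cfsg.Agent.H973.QA
open Cfsg.Agent.SporadicB Cfsg.Agent.H715.Fpr

theorem cz {G : Type*} [Group G] (z : G) :
    centralizer ((zpowers z : Subgroup G) : Set G) = centralizer ({z} : Set G) := by
  rw [zpowers_eq_closure, centralizer_closure]

theorem acts : Acts 3 13 RuOrder.H := by
  have hcard : Nat.card RuOrder.H = 145926144000 := RuOrder.card_H
  have hfin : Finite RuOrder.H := Nat.finite_of_card_ne_zero (by rw [hcard]; norm_num)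
  have hf := Fact.mk (show Nat.Prime 13 by norm_num)
  obtain ⟨z, hz⟩ := exists_prime_orderOf_dvd_card' (G := RuOrder.H) 13 (by rw [hcard]; norm_num)
  have hK := Cfsg.Agent.H147.Fpr.RuOdd.known13
  exact acts_of_card (R := zpowers z) Nat.prime_three (by norm_num) (by rw [Nat.card_zpowers, hz]) 1
    (by rw [hK.norm z hz]; norm_num) (by rw [cz, hK.cent z hz]; norm_num)

theorem row_aux : NoSit Spor.Ru := by
  let e : RuOrder.H ≃* Spor.Ru := Cfsg.Agent.RuLat.Main.equiv.symm
  have hcard : Nat.card Spor.Ru = 145926144000 := by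
    rw [← Nat.card_congr e.toEquiv]; exact RuOrder.card_H
  have hfin : Finite Spor.Ru := Nat.finite_of_card_ne_zero (by rw [hcard]; norm_num)
  have hsimH : IsSimpleGroup RuOrder.H := RuSimple.isSimpleGroup_H
  have hsim : IsSimpleGroup Spor.Ru := e.symm.isSimpleGroup
  intro p q L V _ _ _ _ _ π N φ hπ hs
  have hm : MultDvd Spor.Ru 2 := multDvd_of_cyclic (by norm_num) Cfsg.Agent.S2051.result
  obtain ⟨act, hP⟩ := hs.exists_pSit_prime hπ Nat.prime_two hm
  have hB : Cfsg.Agent.H122.MinDeg Spor.Ru 28 := Cfsg.Agent.H121.Cyc.Ru.ru ⟨MulEquiv.refl _⟩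
  have hna : ¬ IsMulCommutative Spor.Ru := Cfsg.Agent.H121.Cyc.not_comm_of_card (by rw [hcard]; norm_num)
  have hψ : IsCover (MonoidHom.id Spor.Ru) := isCover_id (Cfsg.Agent.H121.Cyc.commutator_top hna)
  have hq : 11 ≤ q := by
    have h1 := hP.qG
    rw [hcard] at h1
    have h2 := hP.hq
    by_contra hlt
    have hlt' : q < 11 := by omega
    interval_cases q
    all_goals contradiction
  have hp : p = 3 ∨ p = 5 ∨ p = 7 ∨ p = 13 ∨ p = 29 := by
    have h1 := hP.pG
    rw [hcard, show 145926144000 = 2 ^ 14 * 3 ^ 3 * 5 ^ 3 * 7 * 13 * 29 by norm_num] at h1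
    have hpp := hP.hp
    have key : ∀ r : ℕ, r.Prime → p ∣ r → p = r := fun r hr hd => (Nat.prime_dvd_prime_iff_eq hpp hr).1 hd
    rcases (Nat.Prime.dvd_mul hpp).1 h1 with h1 | h1
    · rcases (Nat.Prime.dvd_mul hpp).1 h1 with h1 | h1
      · rcases (Nat.Prime.dvd_mul hpp).1 h1 with h1 | h1
        · rcases (Nat.Prime.dvd_mul hpp).1 h1 with h1 | h1
          · rcases (Nat.Prime.dvd_mul hpp).1 h1 with h1 | h1
            · exact absurd (key 2 (by norm_num) (hpp.dvd_of_dvd_pow h1)) hP.odd
            · exact Or.inl (key 3 (by norm_num) (hpp.dvd_of_dvd_pow h1))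
          · exact Or.inr (Or.inl (key 5 (by norm_num) (hpp.dvd_of_dvd_pow h1)))
        · exact Or.inr (Or.inr (Or.inl (key 7 (by norm_num) h1)))
      · exact Or.inr (Or.inr (Or.inr (Or.inl (key 13 (by norm_num) h1))))
    · exact Or.inr (Or.inr (Or.inr (Or.inr (key 29 (by norm_num) h1))))
  -- the centralizers
  have hcent : ∀ z : Spor.Ru, Nat.card (centralizer ({z} : Set Spor.Ru)) =
      Nat.card (centralizer ({e.symm z} : Set RuOrder.H)) := by
    intro z
    refine Nat.card_congr ((Equiv.subtypeEquiv e.symm.toEquiv fun g => ?_))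
    rw [mem_centralizer_singleton_iff, mem_centralizer_singleton_iff]
    show _ ↔ e.symm g * e.symm z = e.symm z * e.symm g
    rw [← map_mul, ← map_mul, e.symm.injective.eq_iff]
  have hpf := Fact.mk hP.hp
  obtain ⟨z, hz⟩ := exists_prime_orderOf_dvd_card' (G := Spor.Ru) p hP.pG
  have hz' : orderOf (e.symm z) = p := by rw [MulEquiv.orderOf_eq, hz]
  have hfinH : Finite RuOrder.H := Finite.of_equiv _ e.symm.toEquiv
  have hn1 : 1 ≤ Nat.card (normalizer (zpowers z : Set Spor.Ru)) := Nat.card_pos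
  rcases hp with rfl | rfl | rfl | rfl | rfl
  · obtain ⟨g, y, hg, ⟨k, hk⟩, h1, h2⟩ := acts
    refine PSit.no_fr hP hψ hB (s := 8) (q0 := 11) (r := 13) (g := e g) (y := e y) (by norm_num) hq hcard (by norm_num)
      (by simp) (by rw [MulEquiv.orderOf_eq, hg]) ?_ ⟨k, by rw [MulEquiv.orderOf_eq, hk]⟩ ?_ ?_ (by decide +kernel)
    · rw [hcent, e.symm_apply_apply]
      exact (Cfsg.Agent.H147.Fpr.RuOdd.known13.cent g hg).le.trans (by norm_num)
    · rw [← map_mul, ← map_inv, ← map_mul]
      obtain ⟨j, hj⟩ := mem_zpowers_iff.1 h1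
      exact mem_zpowers_iff.2 ⟨j, by rw [← hj, map_zpow]⟩
    · rw [← map_mul, ← map_mul]
      exact fun h3 => h2 (e.injective h3)
  · obtain ⟨x, t, hx, -, hgen⟩ := Cfsg.Agent.H269.QA.RuGen.ru_two
    have ho : orderOf (t * x * t⁻¹) = 5 := by
      rw [← hx]
      exact orderOf_injective (MulAut.conj t).toMonoidHom (MulAut.conj t).injective x
    have hi : ∀ y : Spor.Ru, (normalizer (zpowers y : Set Spor.Ru)).index ≤ 145926144000 := fun y => by
      rw [← hcard]; exact Nat.le_of_dvd Nat.card_pos (index_dvd_card _)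
    refine PSit.no_gen hP hψ hB (q0 := 11) (by norm_num) hq
      [(x, 145926144000), (t * x * t⁻¹, 145926144000)] ?_ ?_ (by
        show Nat.log 11 145926144000 + (Nat.log 11 145926144000 + 0) < 28
        decide +kernel)
    · intro z hz
      simp only [List.mem_cons, List.not_mem_nil, or_false] at hz
      rcases hz with rfl | rfl
      · exact ⟨⟨1, by rw [pow_one]; exact hx⟩, hi _⟩
      · exact ⟨⟨1, by rw [pow_one]; exact ho⟩, hi _⟩
    · intro H hH
      rw [← top_le_iff, ← hgen, closure_le]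
      rintro w (rfl | rfl)
      · exact hH (w, 145926144000) (by simp)
      · exact hH (t * x * t⁻¹, 145926144000) (by simp)
  · refine PSit.no_ch hP hψ hB (s := 6) (n := 1) (q0 := 11) (by norm_num) hq hcard hz ?_ (by norm_num) hn1
      (by decide +kernel)
    rw [hcent, ← cz]
    exact (Cfsg.Agent.H148.Ru.cent7_le (by rw [Nat.card_zpowers, hz'])).trans (by norm_num)
  · refine PSit.no_ch hP hψ hB (s := 8) (n := 1) (q0 := 11) (by norm_num) hq hcard hz ?_ (by norm_num) hn1
      (by decide +kernel)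
    rw [hcent, Cfsg.Agent.H147.Fpr.RuOdd.known13.cent _ hz']
    norm_num
  · refine PSit.no_ch hP hψ hB (s := 6) (n := 1) (q0 := 11) (by norm_num) hq hcard hz ?_ (by norm_num) hn1
      (by decide +kernel)
    rw [hcent, Cfsg.Agent.H147.Fpr.RuOdd.known29.cent _ hz']
    norm_num

/-- **the row `Ru`** -/
theorem row_ru {S : Type} [Group S] [Finite S] [IsSimpleGroup S] (h : Spor.IsoRu S) : NoSit S := by
  obtain ⟨e⟩ := h
  exact NoSit.of_equiv e row_aux

end Cfsg.Agent.H440.QA.Rud
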